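import Groth.Agent.S8433
import Groth.Agent.S4121
import Groth.Agent.Chev.MaxTorusBC
import Groth.Agent.Chev.GeomPtIso
import Groth.Agent.Chev.Complement
import Groth.Agent.MTImage.CartanGeom
import Groth.Agent.MTBridge.ExtCentral
import Groth.Agent.TauSet.OpenSub

/-!
# The maximal torus of a commutative algebraic group
-/

set_option autoImplicit false
set_option linter.style.haveILetI false
set_option backward.isDefEq.respectTransparency false
set_option maxHeartbeats 1000000
set_option synthInstance.maxHeartbeats 200000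

universe u

open CategoryTheory CategoryTheory.Limits MonoidalCategory CartesianMonoidalCategory MonObj GrpObj AlgebraicGeometry

noncomputable section

namespace Groth.Agent.CommMaxTorus

/-- Commutation of all points passes to a base change. -/
theorem comm_bc {S S' : Scheme.{u}} (τ : S' ⟶ S) (G : Over S) [GrpObj G]
    (hcomm : ∀ (X : Over S) (g h : X ⟶ G), g * h = h * g)
    (X : Over S') (g h : X ⟶ Red.bc τ G) : g * h = h * g := by
  obtain ⟨a, rfl⟩ := MTBridge.exists_toBC' τ g
  obtain ⟨b, rfl⟩ := MTBridge.exists_toBC' τ h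
  rw [← MTBridge.toBC_mul, ← MTBridge.toBC_mul, hcomm]

/-- The reduced subgroup over a perfect field. -/
theorem exists_red {k : Type u} [Field k] [PerfectField k] (G : Over (Spec (CommRingCat.of k))) [GrpObj G]
    [LocallyOfFiniteType G.hom] [QuasiCompact G.hom] :
    ∃ (R : Over (Spec (CommRingCat.of k))) (_ : GrpObj R) (c : R ⟶ G), IsMonHom c ∧ Mono c ∧ Smooth R.hom ∧
      QuasiCompact R.hom ∧ ∀ (T : Over (Spec (CommRingCat.of k))) [IsReduced T.left] (g : T ⟶ G), ∃ g' : T ⟶ R, g' ≫ c = g := by
  let I := Scheme.IdealSheafData.vanishingIdeal (⊤ : TopologicalSpace.Closeds G.left)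
  let R : Over (Spec (CommRingCat.of k)) := Over.mk (I.subschemeι ≫ G.hom)
  let c : R ⟶ G := Over.homMk I.subschemeι rfl
  haveI : IsClosedImmersion c.left := inferInstanceAs (IsClosedImmersion I.subschemeι)
  haveI hR : IsReduced R.left := inferInstanceAs (IsReduced I.subscheme)
  have hlift : ∀ {T : Over (Spec (CommRingCat.of k))} [IsReduced T.left] (g : T ⟶ G),
      ∃ g' : T ⟶ R, g' ≫ c = g := fun g => Chev.exists_lift_range g c (by
    refine (Set.subset_univ _).trans (le_of_eq ?_)
    show Set.univ = Set.range I.subschemeι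
    rw [Scheme.IdealSheafData.range_subschemeι, Scheme.IdealSheafData.coe_support_vanishingIdeal]
    rfl)
  haveI : LocallyOfFiniteType R.hom := by rw [← Over.w c]; infer_instance
  haveI : QuasiCompact R.hom := by rw [← Over.w c]; infer_instance
  haveI : IsReduced (R ⊗ R).left := Assoc.isReduced_pullback k R.hom R.hom
  haveI : IsReduced (𝟙_ (Over (Spec (CommRingCat.of k)))).left := inferInstanceAs (IsReduced (Spec (CommRingCat.of k)))
  obtain ⟨e, he⟩ := hlift η[G]
  obtain ⟨d, hd⟩ := hlift ((fst R R ≫ c)⁻¹ * (snd R R ≫ c))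
  obtain ⟨hgrp, hmon⟩ := GrpField.SchImg.exists_grpObj_of_div c
    ⟨e, he⟩ fun T k₁ k₂ => ⟨lift k₁ k₂ ≫ d, by
      rw [Category.assoc, hd, MonObj.comp_mul, GrpObj.comp_inv, lift_fst_assoc, lift_snd_assoc]⟩
  haveI := hmon
  letI : GrpObj (Over.mk R.hom) := hgrp
  exact ⟨R, hgrp, c, hmon, GrpField.SchImg.mono_of_isClosedImmersion c, GrpBasic.smooth_of_grpObj_perfect R.hom,
    inferInstance, fun T _ g => hlift g⟩

/-- A maximal torus exists over an algebraically closed field, without smoothness. -/
theorem exists_maxTorus_algClosed {k : Type u} [Field k] [IsAlgClosed k] (G : Over (Spec (CommRingCat.of k))) [GrpObj G]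
    [LocallyOfFiniteType G.hom] [QuasiCompact G.hom] :
    ∃ (T : Over (Spec (CommRingCat.of k))) (_ : GrpObj T) (i : T ⟶ G), Red.IsMaximalTorus i := by
  obtain ⟨R, _, c, hcm, hcmono, hRs, hRq, hlift⟩ := exists_red G
  haveI := hcm; haveI := hcmono; haveI := hRs; haveI := hRq
  obtain ⟨T, _, i, hi⟩ := Groth.Agent.S4121.result k R
  haveI := hi.1; haveI := hi.2.1
  have hmax := Chev.Borel.isMaxTorus_of_isMaximalTorus i hi
  refine ⟨T, inferInstance, i ≫ c, Chev.Borel.isMaximalTorus_of_isMaxTorus _
    ⟨inferInstance, inferInstance, hi.2.2.1, fun T' _ j _ _ f hT' hf => ?_⟩⟩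
  haveI := Chev.smooth_of_isTorus hT'
  haveI : IsReduced T'.left := SmoothRed.isReduced_of_smooth_scheme T'.hom
  obtain ⟨j', hj'⟩ := hlift T' j
  haveI : IsMonHom j' := MTSplit.isMonHom_of_comp_mono j' c j hj'
  haveI : Mono (j' ≫ c) := by rw [hj']; infer_instance
  haveI : Mono j' := mono_of_mono j' c
  exact hmax.2.2.2 T' j' f hT' (by rw [← cancel_mono c, Category.assoc, hj', hf])

/-- A maximal torus of a commutative algebraic group is geometrically maximal. -/
theorem isMaximalTorus_of_comm {k : Type u} [Field k] {G T : Over (Spec (CommRingCat.of k))} [GrpObj G] [GrpObj T]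
    [LocallyOfFiniteType G.hom] [QuasiCompact G.hom]
    (hcomm : ∀ (X : Over (Spec (CommRingCat.of k))) (g h : X ⟶ G), g * h = h * g)
    (i : T ⟶ G) (hT : AGF.IsMaxTorus i) : Red.IsMaximalTorus i := by
  obtain ⟨him, himono, hTt, hmax⟩ := hT
  haveI := him; haveI := himono
  haveI : Subsingleton (Spec (CommRingCat.of k)) := inferInstanceAs (Subsingleton (PrimeSpectrum k))
  haveI : LocallyOfFinitePresentation G.hom := TauSet.lfp G
  haveI : IsSeparated G.hom := GrpField.isSeparated_hom G
  let τ := Spec.map (CommRingCat.ofHom (algebraMap k (AlgebraicClosure k)))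
  haveI : Surjective τ := ⟨fun x => ⟨IsLocalRing.closedPoint _, Subsingleton.elim _ _⟩⟩
  haveI : LocallyOfFiniteType (Red.bc τ G).hom := inferInstanceAs (LocallyOfFiniteType (pullback.snd G.hom τ))
  haveI : QuasiCompact (Red.bc τ G).hom := inferInstanceAs (QuasiCompact (pullback.snd G.hom τ))
  obtain ⟨T', _, i', hi'⟩ := exists_maxTorus_algClosed (Red.bc τ G)
  obtain ⟨T₀, _, i₀, hi₀, -, huniv⟩ := Groth.Agent.S8433.result (Spec (CommRingCat.of k)) G
    ⟨Spec (CommRingCat.of (AlgebraicClosure k)), τ, inferInstance, inferInstance, fun V _ => by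
      refine ⟨τ ⁻¹ᵁ V, ?_, ?_⟩
      · exact τ.isCompact_preimage ((Set.subsingleton_of_subsingleton (s := (V : Set (Spec (CommRingCat.of k))))).finite.isCompact)
      · exact Set.image_preimage_eq _ τ.surjective,
      T', inferInstance, i', hi', fun X t g => comm_bc τ G hcomm X _ g⟩
  obtain ⟨f, hf⟩ := huniv T i hTt
  haveI := hi₀.1; haveI := hi₀.2.1
  haveI := hmax T₀ i₀ f hi₀.2.2.1 hf
  haveI : IsMonHom f := MTSplit.isMonHom_of_comp_mono f i₀ i hf
  refine ⟨him, himono, hTt, fun s T'' _ j _ _ g hT'' hg => ?_⟩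
  have := hi₀.2.2.2 s T'' j ((Over.pullback (Red.geomPt s)).map (inv f) ≫ g) hT'' (by
    rw [Category.assoc, hg, ← Functor.map_comp, IsIso.inv_comp_eq _ |>.2 hf.symm])
  exact IsIso.of_isIso_comp_left ((Over.pullback (Red.geomPt s)).map (inv f)) g

/-- Maximality of tori is stable under extension of the base field, for commutative groups. -/
theorem isMaxTorus_bc {k : Type u} [Field k] (K : Type u) [Field K] [Algebra k K]
    {G T : Over (Spec (CommRingCat.of k))} [GrpObj G] [GrpObj T] [LocallyOfFiniteType G.hom]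
    (hcomm : ∀ (X : Over (Spec (CommRingCat.of k))) (g h : X ⟶ G), g * h = h * g)
    (i : T ⟶ G) (hT : AGF.IsMaxTorus i) :
    AGF.IsMaxTorus ((Over.pullback (Spec.map (CommRingCat.ofHom (algebraMap k K)))).map i) := by
  obtain ⟨him, himono, hTt, hmax⟩ := hT
  haveI := him; haveI := himono
  let φ := Spec.map (CommRingCat.ofHom (algebraMap k K))
  haveI : Subsingleton (Spec (CommRingCat.of k)) := inferInstanceAs (Subsingleton (PrimeSpectrum k))
  obtain ⟨U, W, hU, -, hWc, hW⟩ := TauSet.exists_open_neutral G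
  have hW' : (W : Set G.left) = SGA3x.neutralSet G := by
    rw [hW, Set.inter_eq_left]
    intro x _
    obtain ⟨y, hy⟩ := hU
    show G.hom.base x ∈ (U : Set _)
    rw [Subsingleton.elim (G.hom.base x) y]
    exact hy
  obtain ⟨hgrp, hmon⟩ := TauSet.exists_grpObj_neutral G W hW'
  let C : Over (Spec (CommRingCat.of k)) := Over.mk (W.ι ≫ G.hom)
  let c : C ⟶ G := SmNeutral.openSub G W
  haveI : IsMonHom c := hmon
  haveI : IsOpenImmersion c.left := inferInstanceAs (IsOpenImmersion W.ι)
  haveI : Mono c := SmNeutral.mono_openSub G W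
  haveI : CompactSpace C.left := isCompact_iff_compactSpace.1 hWc
  haveI : LocallyOfFiniteType C.hom := inferInstanceAs (LocallyOfFiniteType (W.ι ≫ G.hom))
  haveI : QuasiCompact C.hom := inferInstance
  have hcommC : ∀ (X : Over (Spec (CommRingCat.of k))) (g h : X ⟶ C), g * h = h * g := fun X g h => by
    rw [← cancel_mono c, MonObj.mul_comp, MonObj.mul_comp, hcomm]
  obtain ⟨t, ht⟩ := MTImage.exists_factor_open hTt i c
  haveI : IsMonHom t := MTSplit.isMonHom_of_comp_mono t c i ht
  haveI : Mono (t ≫ c) := by rw [ht]; infer_instance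
  haveI : Mono t := mono_of_mono t c
  have hmC : AGF.IsMaxTorus t :=
    ⟨inferInstance, inferInstance, hTt, fun T' _ j _ _ f hT' hf => hmax T' (j ≫ c) f hT' (by
      rw [← Category.assoc, hf, ht])⟩
  have hK : AGF.IsMaxTorus ((Over.pullback φ).map t) :=
    Chev.Borel.isMaxTorus_of_isMaximalTorus _
      (Chev.MaxTorusBC.isMaximalTorus_bc t (isMaximalTorus_of_comm hcommC t hmC) φ)
  haveI : PreservesLimitsOfShape WalkingCospan (Over.pullback φ) :=
    (Adjunction.rightAdjoint_preservesLimits (Over.mapPullbackAdj φ)).preservesLimitsOfShape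
  haveI : LocallyOfFiniteType ((Over.pullback φ).obj G).hom := inferInstanceAs (LocallyOfFiniteType (pullback.snd G.hom φ))
  haveI : IsOpenImmersion ((Over.pullback φ).map c).left := by
    have hsq : IsPullback ((Over.pullback φ).map c).left (pullback.fst C.hom φ) (pullback.fst G.hom φ) c.left := by
      refine IsPullback.of_right ?_ (pullback.lift_fst _ _ _) (IsPullback.of_hasPullback G.hom _).flip
      rw [show ((Over.pullback φ).map c).left ≫ pullback.snd G.hom _ = pullback.snd C.hom _ from pullback.lift_snd _ _ _,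
        Over.w c]
      exact (IsPullback.of_hasPullback C.hom _).flip
    exact MorphismProperty.of_isPullback (P := @IsOpenImmersion) hsq.flip inferInstance
  refine ⟨inferInstance, inferInstance, hK.2.2.1, fun T' _ j _ _ f hT' hf => ?_⟩
  obtain ⟨j', hj'⟩ := MTImage.exists_factor_open hT' j ((Over.pullback φ).map c)
  haveI : IsMonHom j' := MTSplit.isMonHom_of_comp_mono j' _ j hj'
  haveI : Mono (j' ≫ (Over.pullback φ).map c) := by rw [hj']; infer_instance
  haveI : Mono j' := mono_of_mono j' ((Over.pullback φ).map c)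
  exact hK.2.2.2 T' j' f hT' (by
    rw [← cancel_mono ((Over.pullback φ).map c), Category.assoc, hj', hf, ← Functor.map_comp, ht])

end Groth.Agent.CommMaxTorus
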