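import Groth.Agent.CommMaxTorus.NormImage
import Groth.Agent.CoverMap.Basic
import Groth.Agent.Chev.WeylFinite
import Groth.Agent.Chev.CentCover
import Groth.Agent.Chev.CentDense
import Groth.Agent.MTImage.ToriConj
import Groth.Agent.MTImage.CartanField

/-!
# Images of Cartan subgroups
-/

set_option autoImplicit false
set_option linter.style.haveILetI false
set_option backward.isDefEq.respectTransparency false
set_option maxHeartbeats 1000000
set_option synthInstance.maxHeartbeats 400000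

universe u

open CategoryTheory CategoryTheory.Limits MonoidalCategory CartesianMonoidalCategory MonObj GrpObj AlgebraicGeometry

noncomputable section

namespace Groth.Agent.CommMaxTorus

open Chev Chev.BorelFixed
open Groth.Agent.SubGen (rpt exists_rpt map_rpt rpt_injective)

variable {k : Type u} [Field k]

/-- A flat quasi-compact surjection is a covering. -/
theorem covers_of_flat_surjective {X Y : Scheme.{u}} (f : X ⟶ Y) [Flat f] [Surjective f] [QuasiCompact f] :
    CoverMap.Covers f :=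
  CoverMap.covers_of_hcov ⟨X, f, 𝟙 _, Category.id_comp _, inferInstance, inferInstance, fun V hV =>
    ⟨f ⁻¹ᵁ V, f.isCompact_preimage hV.isCompact, Set.image_preimage_eq _ f.surjective⟩⟩

variable [IsAlgClosed k]

/-- An image of a smooth group given by a flat surjection and a monomorphism is a smooth closed subgroup. -/
theorem image_props {T T' H : Over (Spec (CommRingCat.of k))} [GrpObj T] [GrpObj T'] [GrpObj H] [Smooth T.hom]
    [QuasiCompact T.hom] [LocallyOfFiniteType H.hom] [QuasiCompact H.hom] (f : T ⟶ H) [IsMonHom f]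
    (t' : T' ⟶ H) [IsMonHom t'] [Mono t'] (w : T ⟶ T') [Flat w.left] [Surjective w.left] (hw : w ≫ t' = f) :
    Smooth T'.hom ∧ QuasiCompact T'.hom ∧ IsClosedImmersion t'.left := by
  haveI : IsSeparated H.hom := GrpField.isSeparated_hom H
  obtain ⟨P, hPg, iP, p, hiP, hp, hiPc, hPs, hPq, hps, hpm⟩ := Chev.Borel.exists_smooth_image' f
  haveI := hiP; haveI := hp; haveI := hiPc; haveI := hPs; haveI := hPq; haveI := hps
  haveI : Mono iP := GrpField.SchImg.mono_of_isClosedImmersion iP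
  haveI : AlgebraicGeometry.IsReduced T.left := SmoothRed.isReduced_of_smooth_scheme T.hom
  haveI : IsSeparated P.hom := GrpField.isSeparated_hom P
  haveI : QuasiCompact p.left := by
    haveI : QuasiCompact (p.left ≫ P.hom) := by rw [Over.w p]; infer_instance
    exact QuasiCompact.of_comp p.left P.hom
  haveI : AlgebraicGeometry.IsReduced P.left := SmoothRed.isReduced_of_smooth_scheme P.hom
  haveI : Flat p.left := GrpField.flat_of_surjective_reduced p
  haveI : Mono t'.left := inferInstanceAs (Mono ((Over.forget _).map t'))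
  haveI : IsSeparated t'.left := inferInstance
  haveI : QuasiCompact w.left := by
    haveI : QuasiCompact f.left := by
      haveI : QuasiCompact (f.left ≫ H.hom) := by rw [Over.w f]; infer_instance
      exact QuasiCompact.of_comp f.left H.hom
    haveI : QuasiCompact (w.left ≫ t'.left) := by rw [← Over.comp_left, hw]; infer_instance
    exact QuasiCompact.of_comp w.left t'.left
  obtain ⟨a, ha, -⟩ := CoverMap.existsUnique_fac (covers_of_flat_surjective w.left) p fun X x y e => by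
    rw [← cancel_mono iP, Category.assoc, Category.assoc, hpm, ← hw, reassoc_of% e]
  obtain ⟨b, hb, -⟩ := CoverMap.existsUnique_fac (covers_of_flat_surjective p.left) w fun X x y e => by
    rw [← cancel_mono t', Category.assoc, Category.assoc, hw, ← hpm, reassoc_of% e]
  haveI := CoverMap.epi_over (covers_of_flat_surjective w.left)
  haveI := CoverMap.epi_over (covers_of_flat_surjective p.left)
  have ha' : a ≫ iP = t' := by rw [← cancel_epi w, reassoc_of% ha, hpm, hw]
  haveI : IsIso a := ⟨b, by rw [← cancel_epi w, reassoc_of% ha, hb, Category.comp_id],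
    by rw [← cancel_epi p, reassoc_of% hb, ha, Category.comp_id]⟩
  haveI : IsIso a.left := inferInstanceAs (IsIso ((Over.forget _).map a))
  refine ⟨?_, ?_, ?_⟩
  · rw [← Over.w a]; infer_instance
  · rw [← Over.w a]; infer_instance
  · rw [← ha', Over.comp_left]; infer_instance


/-- The normalizer of a torus is a finite union of cosets of its centralizer, without affineness. -/
theorem exists_finite_weyl {G T C : Over (Spec (CommRingCat.of k))} [GrpObj G] [GrpObj T] [GrpObj C] [Smooth G.hom]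
    [QuasiCompact G.hom] [ConnectedSpace G.left] (i : T ⟶ G) [IsMonHom i] [Mono i] (hT : Red.IsTorus T)
    (c : C ⟶ G) (hC : Red.IsCentralizerOf i c) :
    ∃ s : Finset (RP G), ∀ g : RP G,
      (∀ p : RP T, (∃ p' : RP T, g * (p ≫ i) * g⁻¹ = p' ≫ i) ∧
        (∃ p' : RP T, g⁻¹ * (p ≫ i) * g = p' ≫ i)) →
      ∃ m ∈ s, ∃ z : RP C, g = m * (z ≫ c) := by
  classical
  obtain ⟨L, D, Q, _, _, _, l, d, q, R⟩ := Chev.Borel.exists_affReduction G
  haveI := R.l_hom; haveI := R.l_closed; haveI := R.l_affine; haveI := R.l_smooth; haveI := R.l_connected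
  haveI : Mono l := GrpField.SchImg.mono_of_isClosedImmersion l
  obtain ⟨t, ht, htm, htmono⟩ := Chev.Borel.exists_factor_torus R i hT
  haveI := htm; haveI := htmono
  obtain ⟨CL, _, cL, hCL, s, hs⟩ := Groth.Agent.Chev.Borel.exists_finite_weyl t hT
  refine ⟨s.image (fun m => m ≫ l), fun g hg => ?_⟩
  obtain ⟨a, z, haz⟩ := R.decomp g
  have hd : ∀ p : RP T, (z ≫ d) * (p ≫ i) = (p ≫ i) * (z ≫ d) := fun p => R.central _ z _
  have h1 : ∀ p : RP T, g * (p ≫ i) * g⁻¹ = (a ≫ l) * (p ≫ i) * (a ≫ l)⁻¹ := fun p => by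
    rw [← haz, _root_.mul_inv_rev, _root_.mul_assoc (a ≫ l), hd p]
    group
  have h2 : ∀ p : RP T, g⁻¹ * (p ≫ i) * g = (a ≫ l)⁻¹ * (p ≫ i) * (a ≫ l) := fun p => by
    rw [show g = (z ≫ d) * (a ≫ l) by rw [← haz, R.central _ z (a ≫ l)], _root_.mul_inv_rev,
      _root_.mul_assoc ((a ≫ l)⁻¹), _root_.mul_assoc ((a ≫ l)⁻¹)]
    rw [show (z ≫ d)⁻¹ * (p ≫ i) * ((z ≫ d) * (a ≫ l)) = (z ≫ d)⁻¹ * ((p ≫ i) * (z ≫ d)) * (a ≫ l) by
      simp only [_root_.mul_assoc], ← hd p, inv_mul_cancel_left]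
    simp only [_root_.mul_assoc]
  obtain ⟨m, hm, zL, hzL⟩ := hs a fun p => by
    obtain ⟨⟨p', hp'⟩, ⟨p'', hp''⟩⟩ := hg p
    rw [h1] at hp'
    rw [h2] at hp''
    refine ⟨⟨p', ?_⟩, ⟨p'', ?_⟩⟩
    · rw [← cancel_mono l]
      simpa only [MonObj.mul_comp, GrpObj.inv_comp, Category.assoc, ht] using hp'
    · rw [← cancel_mono l]
      simpa only [MonObj.mul_comp, GrpObj.inv_comp, Category.assoc, ht] using hp''
  obtain ⟨w, hw⟩ := (hC.2.2 _ ((zL ≫ cL ≫ l) * (z ≫ d))).2 fun X' x h => by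
    have e1 := congrArg (· ≫ l) ((hCL.2.2 _ (zL ≫ cL)).1 ⟨zL, rfl⟩ X' x h)
    simp only [MonObj.mul_comp, Category.assoc, ht] at e1
    rw [MonObj.comp_mul, ← Category.assoc x z d, _root_.mul_assoc, R.central _ (x ≫ z) (h ≫ i),
      ← _root_.mul_assoc, e1, _root_.mul_assoc]
  refine ⟨m ≫ l, Finset.mem_image_of_mem _ hm, w, ?_⟩
  rw [hw, ← haz, hzL, MonObj.mul_comp, Category.assoc, _root_.mul_assoc]

/-- Centralizing points of the image torus lift, up to the image torus, to normalising points. -/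
theorem exists_norm_lift {G H T T' : Over (Spec (CommRingCat.of k))} [GrpObj G] [GrpObj H] [GrpObj T] [GrpObj T']
    [Smooth G.hom] [QuasiCompact G.hom] [LocallyOfFiniteType H.hom]
    (v : G ⟶ H) [IsMonHom v] [Surjective v.left] (i : T ⟶ G) (hT : AGF.IsMaxTorus i)
    (t' : T' ⟶ H) [IsMonHom t'] [IsClosedImmersion t'.left] [Mono t'] (wT : T ⟶ T') (hwT : wT ≫ t' = i ≫ v)
    (h : RP H) (hh : ∀ (X : Over (Spec (CommRingCat.of k))) (x : X ⟶ T'),
      (toUnit X ≫ h) * (x ≫ t') = (x ≫ t') * (toUnit X ≫ h)) :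
    ∃ (g : RP G) (q : RP T'), g ≫ v = (q ≫ t') * h ∧
      ∀ p : RP T, (∃ p' : RP T, g * (p ≫ i) * g⁻¹ = p' ≫ i) ∧ (∃ p' : RP T, g⁻¹ * (p ≫ i) * g = p' ≫ i) := by
  obtain ⟨him, himono, hTt, hmax⟩ := id hT
  haveI := him; haveI := himono
  haveI := Chev.smooth_of_isTorus hTt
  haveI := Chev.connectedSpace_of_isTorus hTt
  haveI : AlgebraicGeometry.IsReduced T.left := SmoothRed.isReduced_of_smooth_scheme T.hom
  obtain ⟨g₀, hg₀⟩ := Chev.exists_rat_lift v h
  let P := Limits.pullback v t'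
  let iP : P ⟶ G := Limits.pullback.fst v t'
  let p' : P ⟶ T' := Limits.pullback.snd v t'
  have hP : IsPullback iP p' v t' := IsPullback.of_hasPullback v t'
  haveI : Mono iP := inferInstanceAs (Mono (Limits.pullback.fst v t'))
  obtain ⟨hPg, hPm⟩ := MTBridge.exists_grpObj_of_div iP
    ⟨hP.lift η[G] η[T'] (by rw [IsMonHom.one_hom v, IsMonHom.one_hom t']), hP.lift_fst _ _ _⟩
    (fun X a b => ⟨hP.lift ((a ≫ iP)⁻¹ * (b ≫ iP)) ((a ≫ p')⁻¹ * (b ≫ p')) (by
      simp only [MonObj.mul_comp, GrpObj.inv_comp, Category.assoc, hP.w]), hP.lift_fst _ _ _⟩)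
  letI := hPg; haveI := hPm
  haveI : IsMonHom p' := MTSplit.isMonHom_of_comp_mono p' t' (iP ≫ v) hP.w.symm
  haveI : IsClosedImmersion iP.left :=
    MorphismProperty.of_isPullback (P := @IsClosedImmersion) (hP.map (Over.forget _)).flip ‹IsClosedImmersion t'.left›
  haveI : LocallyOfFiniteType P.hom := by rw [← Over.w iP]; infer_instance
  haveI : QuasiCompact P.hom := by rw [← Over.w iP]; infer_instance
  obtain ⟨R, _, r, hrm, hrmono, hRs, hRq, hlift⟩ := exists_red P
  haveI := hrm; haveI := hrmono; haveI := hRs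
  obtain ⟨E, _, c, hcm, hco, hcc, hEs, hEq, hEc⟩ := GrMax.exists_neutral R
  haveI := hcm; haveI := hco; haveI := hcc; haveI := hEs; haveI := hEc; haveI := hEq
  haveI : Mono c := GrpField.SchImg.mono_of_isClosedImmersion c
  let e : E ⟶ G := c ≫ r ≫ iP
  haveI : IsMonHom e := inferInstanceAs (IsMonHom (c ≫ r ≫ iP))
  haveI : Mono e := inferInstanceAs (Mono (c ≫ r ≫ iP))
  have hfac : ∀ (j : T ⟶ G) [IsMonHom j] [Mono j] (j' : T ⟶ T'), j ≫ v = j' ≫ t' →
      AGF.IsMaxTorus j → ∃ u : T ⟶ E, u ≫ e = j ∧ AGF.IsMaxTorus u := by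
    intro j _ _ j' hj hjmax
    have h0 : hP.lift j j' hj ≫ iP = j := hP.lift_fst _ _ _
    haveI : IsMonHom (hP.lift j j' hj) := MTSplit.isMonHom_of_comp_mono _ iP j h0
    obtain ⟨u₁, hu₁⟩ := hlift T (hP.lift j j' hj)
    haveI : IsMonHom u₁ := MTSplit.isMonHom_of_comp_mono u₁ r _ hu₁
    obtain ⟨u, hu⟩ := exists_factor_open_connected u₁ c
    haveI : IsMonHom u := MTSplit.isMonHom_of_comp_mono u c _ hu
    have hue : u ≫ e = j := by simp only [e, reassoc_of% hu, reassoc_of% hu₁, h0]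
    haveI : Mono (u ≫ e) := by rw [hue]; infer_instance
    haveI : Mono u := mono_of_mono u e
    exact ⟨u, hue, inferInstance, inferInstance, hjmax.2.2.1, fun T₁ _ j₁ _ _ f₁ hT₁ hf₁ =>
      hjmax.2.2.2 T₁ (j₁ ≫ e) f₁ hT₁ (by rw [← Category.assoc, hf₁, hue])⟩
  obtain ⟨u₁, hu₁, hm₁⟩ := hfac i wT hwT.symm hT
  have hc := Chev.Borel.isMaxTorus_conjBy g₀ i hT
  haveI := hc.1; haveI := hc.2.1
  obtain ⟨u₂, hu₂, hm₂⟩ := hfac (AGF.conjBy g₀ i) wT (by
    rw [AGF.conjBy, MonObj.mul_comp, MonObj.mul_comp, GrpObj.inv_comp, Category.assoc, hg₀, ← hwT, hh,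
      mul_inv_cancel_right]) hc
  obtain ⟨x, φ, hφ⟩ := MTImage.exists_conjBy_maxTori u₂ hm₂ u₁ hm₁
  refine ⟨(x ≫ e) * g₀, x ≫ c ≫ r ≫ p', ?_, fun p => ?_⟩
  · rw [MonObj.mul_comp, hg₀]
    simp only [e, Category.assoc, hP.w]
  · have key : ∀ q : RP T, ((x ≫ e) * g₀) * (q ≫ i) * ((x ≫ e) * g₀)⁻¹ = (q ≫ φ.hom) ≫ i := fun q => by
      have h1 := congrArg (fun m => q ≫ m ≫ e) hφ
      simp only [MonObj.comp_mul, MonObj.mul_comp, GrpObj.comp_inv, GrpObj.inv_comp, Category.assoc, hu₁, hu₂,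
        comp_toUnit_assoc, toUnit_unit, Category.id_comp] at h1
      rw [Category.assoc, ← h1]
      group
    refine ⟨⟨p ≫ φ.hom, key p⟩, ⟨p ≫ φ.inv, ?_⟩⟩
    have h1 := key (p ≫ φ.inv)
    simp only [Category.assoc, Iso.inv_hom_id_assoc] at h1 ⊢
    rw [← h1]
    group

/-- The image of a Cartan subgroup is all of the centralizer of the image torus. -/
theorem surjective_cartan_image {G H T C T' C' C₁ : Over (Spec (CommRingCat.of k))} [GrpObj G] [GrpObj H] [GrpObj T]
    [GrpObj C] [GrpObj T'] [GrpObj C'] [GrpObj C₁]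
    [Smooth G.hom] [QuasiCompact G.hom] [ConnectedSpace G.left] [LocallyOfFiniteType H.hom]
    (v : G ⟶ H) [IsMonHom v] [Surjective v.left] (i : T ⟶ G) (hT : AGF.IsMaxTorus i)
    (c : C ⟶ G) (hC : Red.IsCentralizerOf i c)
    (t' : T' ⟶ H) [IsMonHom t'] [IsClosedImmersion t'.left] [Mono t'] (wT : T ⟶ T') (hwT : wT ≫ t' = i ≫ v)
    [Surjective wT.left] [LocallyOfFiniteType T'.hom] [LocallyOfFiniteType T.hom]
    (c' : C' ⟶ H) [IsMonHom c'] [IsClosedImmersion c'.left] [LocallyOfFiniteType C'.hom]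
    (wC : C ⟶ C') (hwC : wC ≫ c' = c ≫ v)
    (c₁ : C₁ ⟶ H) [IsMonHom c₁] (hC₁ : Red.IsCentralizerOf t' c₁) [LocallyOfFiniteType C₁.hom]
    [IrreducibleSpace C₁.left] : Set.range c₁.left ⊆ Set.range c'.left := by
  classical
  haveI := hT.1; haveI := hT.2.1; haveI := hC.1
  obtain ⟨s, hs⟩ := exists_finite_weyl i hT.2.2.1 c hC
  let tr : RP H → (C' ⟶ H) := fun m => (toUnit C' ≫ m) * c'
  have hcover : ∀ x : RP C₁, ∃ m ∈ s, ∃ z : RP C', z ≫ tr (m ≫ v) = x ≫ c₁ := by
    intro x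
    obtain ⟨g, q, hgq, hnorm⟩ := exists_norm_lift v i hT t' wT hwT (x ≫ c₁) fun X y => by
      have h2 := (hC₁.2.2 X ((toUnit X ≫ x) ≫ c₁)).1 ⟨_, rfl⟩ X (𝟙 X) y
      simpa only [Category.id_comp, Category.assoc] using h2
    obtain ⟨q₀, hq₀⟩ := Chev.exists_rat_lift wT q
    obtain ⟨m, hm, z, hz⟩ := hs ((q₀ ≫ i)⁻¹ * g) fun p => by
      obtain ⟨⟨p', hp'⟩, ⟨p'', hp''⟩⟩ := hnorm p
      obtain ⟨⟨q', hq'⟩, ⟨q'', hq''⟩⟩ := hnorm (q₀ * p * q₀⁻¹)
      refine ⟨⟨q₀⁻¹ * p' * q₀, ?_⟩, ⟨q'', ?_⟩⟩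
      · simp only [MonObj.mul_comp, GrpObj.inv_comp, ← hp']
        group
      · rw [← hq'']
        simp only [MonObj.mul_comp, GrpObj.inv_comp]
        group
    refine ⟨m, hm, z ≫ wC, ?_⟩
    simp only [tr, MonObj.comp_mul, ← Category.assoc, comp_toUnit, toUnit_unit, Category.id_comp]
    have e := congrArg (· ≫ v) hz
    simp only [MonObj.mul_comp, GrpObj.inv_comp, Category.assoc, ← hwC, ← hwT, reassoc_of% hq₀, hgq,
      inv_mul_cancel_left] at e
    rw [Category.assoc z wC c']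
    exact e.symm
  have hclosed : ∀ m : RP H, IsClosed (Set.range (tr m).left) := by
    intro m
    let τ : H ≅ H :=
      { hom := (toUnit H ≫ m) * 𝟙 H
        inv := (toUnit H ≫ m)⁻¹ * 𝟙 H
        hom_inv_id := by simp [MonObj.comp_mul, GrpObj.comp_inv, comp_toUnit_assoc]
        inv_hom_id := by simp [MonObj.comp_mul, GrpObj.comp_inv, comp_toUnit_assoc] }
    have htr : tr m = c' ≫ τ.hom := by
      simp [tr, τ, MonObj.comp_mul, comp_toUnit_assoc]
    haveI : IsIso τ.hom := τ.isIso_hom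
    haveI : IsIso τ.hom.left := inferInstanceAs (IsIso ((Over.forget _).map τ.hom))
    haveI : IsClosedImmersion (tr m).left := by rw [htr, Over.comp_left]; infer_instance
    exact (tr m).left.isClosedEmbedding.isClosed_range
  haveI : JacobsonSpace C₁.left := LocallyOfFiniteType.jacobsonSpace C₁.hom
  let F : Set C₁.left := ⋃ m ∈ s, c₁.left ⁻¹' Set.range (tr (m ≫ v)).left
  have hF : IsClosed F := s.finite_toSet.isClosed_biUnion fun m _ => (hclosed (m ≫ v)).preimage c₁.left.continuous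
  have hall : ∀ y : C₁.left, y ∈ F := by
    have hsub : closedPoints C₁.left ⊆ F := fun y hy => by
      obtain ⟨x, rfl⟩ := exists_rpt hy
      obtain ⟨m, hm, z, hz⟩ := hcover x
      refine Set.mem_biUnion hm ⟨rpt z, ?_⟩
      rw [map_rpt, map_rpt, hz]
    intro y
    have h := closure_minimal hsub hF
    rw [closure_closedPoints] at h
    exact h trivial
  obtain ⟨η₁, hη⟩ := QuasiSober.sober (S := (Set.univ : Set C₁.left)) (IrreducibleSpace.isIrreducible_univ _) isClosed_univ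
  obtain ⟨m, hm, hηm⟩ := Set.mem_iUnion₂.1 (hall η₁)
  have huniv : ∀ y, y ∈ c₁.left ⁻¹' Set.range (tr (m ≫ v)).left := fun y =>
    (hη.specializes (Set.mem_univ y)).mem_closed ((hclosed (m ≫ v)).preimage c₁.left.continuous) hηm
  obtain ⟨z₀, hz₀⟩ := Chev.Borel.exists_rp_of_mem_range (tr (m ≫ v)) ((1 : RP C₁) ≫ c₁) (by
    obtain ⟨y, hy⟩ := huniv (rpt (1 : RP C₁))
    exact ⟨y, hy.trans (map_rpt c₁ _)⟩)
  simp only [tr, MonObj.comp_mul, ← Category.assoc, comp_toUnit, toUnit_unit, Category.id_comp, MonObj.one_comp] at hz₀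
  have hsub : closedPoints C₁.left ⊆ c₁.left ⁻¹' Set.range c'.left := fun y hy => by
    obtain ⟨x, rfl⟩ := exists_rpt hy
    obtain ⟨z, hz⟩ := Chev.Borel.exists_rp_of_mem_range (tr (m ≫ v)) (x ≫ c₁) (by
      obtain ⟨w, hw⟩ := huniv (rpt x)
      exact ⟨w, hw.trans (map_rpt c₁ _)⟩)
    simp only [tr, MonObj.comp_mul, ← Category.assoc, comp_toUnit, toUnit_unit, Category.id_comp] at hz
    refine ⟨rpt (z₀⁻¹ * z), ?_⟩
    rw [map_rpt, map_rpt]
    congr 1
    rw [MonObj.mul_comp, GrpObj.inv_comp, ← hz, mul_eq_one_iff_eq_inv.1 hz₀]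
  rintro _ ⟨y, rfl⟩
  have h := closure_minimal hsub (c'.left.isClosedEmbedding.isClosed_range.preimage c₁.left.continuous)
  rw [closure_closedPoints] at h
  exact h trivial

end Groth.Agent.CommMaxTorus
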