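import Groth.Agent.CommMaxTorus.CartanImage
import Groth.Agent.Chev.MaxTorusImage

/-!
# Smooth images of groups, and of maximal tori
-/

set_option autoImplicit false
set_option linter.style.haveILetI false
set_option backward.isDefEq.respectTransparency false
set_option maxHeartbeats 1000000
set_option synthInstance.maxHeartbeats 400000

universe u

open CategoryTheory CategoryTheory.Limits MonoidalCategory CartesianMonoidalCategory MonObj GrpObj AlgebraicGeometry

noncomputable section

namespace Groth.Agent.CommMaxTorus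

variable {k : Type u} [Field k] [IsAlgClosed k]

/-- The image of a homomorphism from a smooth group, with a flat surjection onto it. -/
theorem exists_image_flat {T H : Over (Spec (CommRingCat.of k))} [GrpObj T] [GrpObj H] [Smooth T.hom]
    [QuasiCompact T.hom] [LocallyOfFiniteType H.hom] [QuasiCompact H.hom] (f : T ⟶ H) [IsMonHom f] :
    ∃ (P : Over (Spec (CommRingCat.of k))) (_ : GrpObj P) (iP : P ⟶ H) (p : T ⟶ P), IsMonHom iP ∧ Mono iP ∧
      IsMonHom p ∧ Flat p.left ∧ Surjective p.left ∧ Smooth P.hom ∧ QuasiCompact P.hom ∧ p ≫ iP = f := by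
  haveI : IsSeparated H.hom := GrpField.isSeparated_hom H
  obtain ⟨P, hPg, iP, p, hiP, hp, hiPc, hPs, hPq, hps, hpm⟩ := Chev.Borel.exists_smooth_image' f
  haveI := hiP; haveI := hp; haveI := hiPc; haveI := hPs; haveI := hPq; haveI := hps
  haveI : AlgebraicGeometry.IsReduced T.left := SmoothRed.isReduced_of_smooth_scheme T.hom
  haveI : AlgebraicGeometry.IsReduced P.left := SmoothRed.isReduced_of_smooth_scheme P.hom
  haveI : IsSeparated P.hom := GrpField.isSeparated_hom P
  haveI : QuasiCompact p.left := by
    haveI : QuasiCompact (p.left ≫ P.hom) := by rw [Over.w p]; infer_instance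
    exact QuasiCompact.of_comp p.left P.hom
  exact ⟨P, hPg, iP, p, inferInstance, GrpField.SchImg.mono_of_isClosedImmersion iP, inferInstance,
    GrpField.flat_of_surjective_reduced p, inferInstance, inferInstance, inferInstance, hpm⟩

/-- A maximal torus has a maximal torus as image under a surjective homomorphism. -/
theorem exists_image_maxTorus {G H T : Over (Spec (CommRingCat.of k))} [GrpObj G] [GrpObj H] [GrpObj T]
    [Smooth G.hom] [QuasiCompact G.hom] [Smooth H.hom] [QuasiCompact H.hom]
    (v : G ⟶ H) [IsMonHom v] [Surjective v.left] (i : T ⟶ G) (hi : Red.IsMaximalTorus i) :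
    ∃ (P : Over (Spec (CommRingCat.of k))) (_ : GrpObj P) (iP : P ⟶ H) (p : T ⟶ P), IsMonHom iP ∧ Mono iP ∧
      IsMonHom p ∧ Flat p.left ∧ Surjective p.left ∧ Red.IsMaximalTorus iP ∧ p ≫ iP = i ≫ v := by
  haveI := hi.1
  haveI := Chev.smooth_of_isTorus hi.2.2.1
  haveI := Chev.isAffine_of_isTorus hi.2.2.1
  haveI : IsAffineHom T.hom := isAffineHom_of_isAffine _
  obtain ⟨P, hPg, iP, p, hiP, hmono, hp, hpf, hps, hPs, hPq, hpm⟩ := exists_image_flat (i ≫ v)
  haveI := hiP; haveI := hmono; haveI := hp; haveI := hps; haveI := hPs; haveI := hPq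
  exact ⟨P, hPg, iP, p, hiP, hmono, hp, hpf, hps, Chev.Borel.isMaximalTorus_of_isMaxTorus iP
    (Chev.MaxTorusImage.isMaxTorus_image v i (Chev.Borel.isMaxTorus_of_isMaximalTorus i hi) iP
      (Chev.isTorus_of_surjective hi.2.2.1 p) p hpm), hpm⟩

end Groth.Agent.CommMaxTorus
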